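import Groth.Agent.AssLib.Apply
import Groth.Agent.AssLib.OpenRestrict
import Groth.Agent.QCoh.DevissageP
import Groth.Agent.FComplLib.AffMod

/-!
# Associated points and monomorphisms from the structure sheaf of a closure
-/

set_option autoImplicit false
set_option backward.isDefEq.respectTransparency false
set_option backward.isDefEq.respectTransparency.types false

universe u

open CategoryTheory CategoryTheory.Limits AlgebraicGeometry TopologicalSpace Opposite

namespace Groth.Agent.AssMono5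

variable {X Z : Scheme.{u}}

/-- The structure module of a closed subscheme, pushed forward. -/
noncomputable abbrev pushO (i : Z ⟶ X) : X.Modules :=
  (Scheme.Modules.pushforward i).obj (Coh.structureModule Z)

/-- The comorphism as a morphism of modules. -/
noncomputable def unitHom (i : Z ⟶ X) : Coh.structureModule X ⟶ pushO i :=
  SheafOfModules.unitToPushforwardObjUnit i.toRingCatSheafHom

theorem unitHom_app (i : Z ⟶ X) (V : X.Opens) (a : Γ(X, V)) : (unitHom i).app V a = i.app V a := rfl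

theorem isQCoh_pushO (i : Z ⟶ X) [IsClosedImmersion i] : Coh.IsQCoh (pushO i) :=
  QCoh.isQCoh_pushforward i QCoh.isQCoh_structureModule

theorem app_eq_zero_iff (i : Z ⟶ X) [IsIntegral Z] (V : X.Opens) (a : Γ(X, V)) :
    i.app V a = 0 ↔ i (genericPoint Z) ∉ X.basicOpen a := by
  refine not_iff_not.1 ((QCoh.ne_zero_iff_mem_basicOpen (i.app V a)).trans ?_)
  rw [not_not, ← Scheme.preimage_basicOpen]
  rfl

theorem mem_ass_pushO [IsLocallyNoetherian X] (i : Z ⟶ X) [IsClosedImmersion i] [IsIntegral Z] :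
    i (genericPoint Z) ∈ AssSch.Ass (pushO i) := by
  obtain ⟨_, ⟨V, hV, rfl⟩, hxV, -⟩ := X.isBasis_affineOpens.exists_subset_of_mem_open
    (Set.mem_univ (i (genericPoint Z))) isOpen_univ
  haveI : IsNoetherianRing Γ(X, V) := IsLocallyNoetherian.component_noetherian ⟨V, hV⟩
  rw [AssLib.mem_ass_iff (isQCoh_pushO i) hV hxV]
  refine isAssociatedPrime_iff.2 ⟨(hV.primeIdealOf ⟨_, hxV⟩).isPrime, (unitHom i).app V (1 : Γ(X, V)), ?_⟩
  ext a
  rw [Submodule.mem_colon_singleton, Submodule.mem_bot]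
  have h : a • (unitHom i).app V (1 : Γ(X, V)) = (unitHom i).app V a :=
    (Scheme.Modules.Hom.app_smul (M := Coh.structureModule X) (unitHom i) a (1 : Γ(X, V))).symm.trans
      (congrArg ((unitHom i).app V) (mul_one a))
  rw [h, unitHom_app, app_eq_zero_iff, QCoh.mem_basicOpen_iff_notMem hV hxV, not_not]

/-- Monomorphisms of quasi-coherent modules preserve associated points. -/
theorem mem_ass_of_mono [IsLocallyNoetherian X] {M N : X.Modules} (hM : Coh.IsQCoh M) (hN : Coh.IsQCoh N)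
    (φ : M ⟶ N) [Mono φ] {z : X} (h : z ∈ AssSch.Ass M) : z ∈ AssSch.Ass N := by
  obtain ⟨_, ⟨V, hV, rfl⟩, hxV, -⟩ := X.isBasis_affineOpens.exists_subset_of_mem_open
    (Set.mem_univ z) isOpen_univ
  haveI : IsNoetherianRing Γ(X, V) := IsLocallyNoetherian.component_noetherian ⟨V, hV⟩
  rw [AssLib.mem_ass_iff hN hV hxV]
  obtain ⟨hp, m, hm⟩ := isAssociatedPrime_iff.1 ((AssLib.mem_ass_iff hM hV hxV).1 h)
  refine isAssociatedPrime_iff.2 ⟨hp, φ.app V m, ?_⟩
  rw [hm]
  ext a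
  rw [Submodule.mem_colon_singleton, Submodule.mem_bot, Submodule.mem_colon_singleton, Submodule.mem_bot]
  rw [← Scheme.Modules.Hom.app_smul]
  exact (map_eq_zero_iff _ (QCoh.app_injective φ V)).symm

theorem exists_mono [IsLocallyNoetherian X] (i : Z ⟶ X) [IsClosedImmersion i] [IsIntegral Z]
    {F : X.Modules} (hF : Coh.IsQCoh F) (h : i (genericPoint Z) ∈ AssSch.Ass F) :
    ∃ U : X.Opens, i (genericPoint Z) ∈ U ∧
      ∃ φ : (Scheme.Modules.pullback U.ι).obj (pushO i) ⟶ (Scheme.Modules.pullback U.ι).obj F, Mono φ := by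
  obtain ⟨U, hU, hxU, -⟩ :=
    exists_isAffineOpen_mem_and_subset (x := i (genericPoint Z)) (U := ⊤) trivial
  refine ⟨U, hxU, ?_⟩
  haveI : IsAffine U.toScheme := hU
  let V : X.Opens := U.ι ''ᵁ ⊤
  have hV : IsAffineOpen V := (isAffineOpen_top U.toScheme).image_of_isOpenImmersion U.ι
  have hxV : i (genericPoint Z) ∈ V := ⟨⟨_, hxU⟩, trivial, rfl⟩
  haveI : IsNoetherianRing Γ(X, V) := IsLocallyNoetherian.component_noetherian ⟨V, hV⟩
  obtain ⟨-, s, hs⟩ := isAssociatedPrime_iff.1 ((AssLib.mem_ass_iff hF hV hxV).1 h)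
  have hs' : ∀ a : Γ(X, V), a • s = 0 ↔ i.app V a = 0 := fun a => by
    rw [app_eq_zero_iff, QCoh.mem_basicOpen_iff_notMem hV hxV, not_not, hs, Submodule.mem_colon_singleton,
      Submodule.mem_bot]
  let A : U.toScheme.Modules := (pushO i).restrict U.ι
  let B : U.toScheme.Modules := F.restrict U.ι
  have hA : Coh.IsQCoh A := QCoh.isQCoh_restrict U.ι (isQCoh_pushO i)
  have hB : Coh.IsQCoh B := QCoh.isQCoh_restrict U.ι hF
  have hO : Coh.IsQCoh (Coh.structureModule U.toScheme) := QCoh.isQCoh_structureModule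
  let one : Γ(A, ⊤) := (show Γ(Z, i ⁻¹ᵁ V) from 1)
  let η : Coh.structureModule U.toScheme ⟶ A := QCoh.homOfTop one
  let σ : Coh.structureModule U.toScheme ⟶ B := QCoh.homOfTop (show Γ(B, ⊤) from s)
  let c : Γ(U.toScheme, ⊤) → Γ(X, V) := fun r => (U.ι.appIso ⊤).inv r
  have hη : ∀ r : Γ(U.toScheme, ⊤), η.app ⊤ r = (show Γ(A, ⊤) from i.app V (c r)) := fun r => by
    refine (QCoh.homOfTop_app one r).trans ?_
    rw [show (homOfLE (le_top (a := (⊤ : U.toScheme.Opens)))) = 𝟙 _ from rfl, op_id, A.presheaf.map_id]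
    exact (mul_one (i.app V (c r)) : _)
  have hσ : ∀ r : Γ(U.toScheme, ⊤), σ.app ⊤ r = (show Γ(B, ⊤) from c r • s) := fun r => by
    refine (QCoh.homOfTop_app (show Γ(B, ⊤) from s) r).trans ?_
    rw [show (homOfLE (le_top (a := (⊤ : U.toScheme.Opens)))) = 𝟙 _ from rfl, op_id, B.presheaf.map_id]
    rfl
  have hsur : ∀ z : Γ(A, ⊤), ∃ r, η.app ⊤ r = z := fun z => by
    obtain ⟨a, ha⟩ := i.app_surjective V hV (show Γ(Z, i ⁻¹ᵁ V) from z)
    obtain ⟨r, hr⟩ := (ConcreteCategory.bijective_of_isIso (U.ι.appIso ⊤).inv).2 a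
    exact ⟨r, (hη r).trans (by rw [show c r = a from hr]; exact ha)⟩
  haveI : Epi η := by
    refine Preadditive.epi_of_cokernel_zero (FComplLib.hom_ext_top hA (QCoh.isQCoh_cokernel hO hA η) _ _ fun z => ?_)
    obtain ⟨r, rfl⟩ := hsur z
    exact congr(($(cokernel.condition η)).app ⊤ r)
  have hker : kernel.ι η ≫ σ = 0 := by
    refine FComplLib.hom_ext_top (QCoh.isQCoh_kernel hO hA η) hB _ _ fun z => ?_
    have h0 : η.app ⊤ ((kernel.ι η).app ⊤ z) = 0 := congr(($(kernel.condition η)).app ⊤ z)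
    rw [hη] at h0
    exact ((hσ _).trans ((hs' _).2 h0) : _)
  obtain ⟨θ, hθ⟩ : ∃ θ : A ⟶ B, η ≫ θ = σ := ⟨_, ((CokernelCofork.IsColimit.desc'
    (Abelian.epiIsCokernelOfKernel _ (kernelIsKernel η)) σ hker)).2⟩
  haveI : Mono θ := by
    refine Preadditive.mono_of_kernel_zero (FComplLib.hom_ext_top (QCoh.isQCoh_kernel hA hB θ) hA _ _ fun z => ?_)
    obtain ⟨r, hr⟩ := hsur ((kernel.ι θ).app ⊤ z)
    have h0 : θ.app ⊤ ((kernel.ι θ).app ⊤ z) = 0 := congr(($(kernel.condition θ)).app ⊤ z)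
    rw [← hr] at h0
    have h1 : σ.app ⊤ r = 0 := (congr(($hθ).app ⊤ r)).symm.trans h0
    rw [hσ] at h1
    show (kernel.ι θ).app ⊤ z = 0
    rw [← hr, hη]
    exact ((hs' _).1 h1 : _)
  exact ⟨((Scheme.Modules.restrictFunctorIsoPullback U.ι).app (pushO i)).inv ≫ θ ≫
    ((Scheme.Modules.restrictFunctorIsoPullback U.ι).app F).hom, inferInstance⟩

theorem mem_ass_iff_exists_mono [IsLocallyNoetherian X] {F : X.Modules} (hF : Coh.IsQCoh F) (x : X)
    (i : Z ⟶ X) [IsClosedImmersion i] [IsIntegral Z] (hx : i (genericPoint Z) = x) :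
    x ∈ AssSch.Ass F ↔ ∃ U : X.Opens, x ∈ U ∧
      ∃ φ : (Scheme.Modules.pullback U.ι).obj (pushO i) ⟶ (Scheme.Modules.pullback U.ι).obj F, Mono φ := by
  subst hx
  refine ⟨exists_mono i hF, fun ⟨U, hxU, φ, hφ⟩ => ?_⟩
  exact (AssLib.mem_ass_pullback_iff U.ι F ⟨_, hxU⟩).1 (mem_ass_of_mono
    (QCoh.isQCoh_pullback U.ι (isQCoh_pushO i)) (QCoh.isQCoh_pullback U.ι hF) φ
    ((AssLib.mem_ass_pullback_iff U.ι (pushO i) ⟨_, hxU⟩).2 (mem_ass_pushO i)))

end Groth.Agent.AssMono5
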